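import Groth.Agent.AnFibLib.Fibre
import Groth.Agent.HilbRepLib.CurveAF
import Groth.Agent.JacLib.RelDim
import Groth.Agent.JacLib.IdealPull
import Groth.Agent.HilbCurveLib.Scheme
import Groth.Agent.HilbCurveLib.Split
import Groth.Agent.AmpleLib.UnivClosed
import Groth.Agent.AmpleLib.Pullback
import Groth.Agent.EtAlgEasy.MorFibre
import Groth.Agent.S1184
import Groth.Agent.S12128

/-! The complement of a finite flat surjective multisection of a family of curves is affine over the base. -/

set_option autoImplicit false
set_option backward.isDefEq.respectTransparency false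
set_option linter.style.haveILetI false
set_option maxHeartbeats 1000000

universe u

open CategoryTheory CategoryTheory.Limits AlgebraicGeometry TopologicalSpace

noncomputable section

namespace Groth.Agent.AnFibLib

variable {X S : Scheme.{u}} (f : X ⟶ S)

/-- Geometric connectedness from irreducible geometric fibres. -/
theorem geometricallyConnected_of_irreducible
    (h : ∀ (Ω : Type u) [Field Ω] [IsAlgClosed Ω] (σ : Spec (CommRingCat.of Ω) ⟶ S),
      IrreducibleSpace ↥(pullback f σ)) : GeometricallyConnected f := by
  refine ⟨fun K _ y Z fst snd hZ => ?_⟩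
  let Ω := AlgebraicClosure K
  let a : Spec (CommRingCat.of Ω) ⟶ Spec (CommRingCat.of K) :=
    Spec.map (CommRingCat.ofHom (algebraMap K Ω))
  haveI := h Ω (a ≫ y)
  let t : pullback f (a ≫ y) ⟶ Z := hZ.lift (pullback.fst _ _) (pullback.snd _ _ ≫ a)
    (by rw [Category.assoc]; exact pullback.condition)
  have sq : IsPullback t (pullback.snd f (a ≫ y)) snd a :=
    IsPullback.of_right (by rw [hZ.lift_fst]; exact IsPullback.of_hasPullback _ _) (hZ.lift_snd _ _ _) hZ
  have hsurj : Function.Surjective t.base := by
    haveI : Surjective a := ⟨fun x => ⟨Nonempty.some inferInstance, Subsingleton.elim _ _⟩⟩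
    haveI : Surjective t := MorphismProperty.of_isPullback sq.flip ‹_›
    exact t.surjective
  show ConnectedSpace Z
  exact hsurj.connectedSpace t.continuous

/-- The fibres have dimension one. -/
theorem dim_fiber [LocallyOfFiniteType f]
    (h : ∀ (Ω : Type u) [Field Ω] [IsAlgClosed Ω] (σ : Spec (CommRingCat.of Ω) ⟶ S),
      topologicalKrullDim ↥(pullback f σ) = 1) (s : S) : topologicalKrullDim ↥(f.fiber s) = 1 := by
  let Ω := AlgebraicClosure (S.residueField s)
  let a : Spec (CommRingCat.of Ω) ⟶ Spec (S.residueField s) :=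
    Spec.map (CommRingCat.ofHom (algebraMap (S.residueField s) Ω))
  let t : pullback f (a ≫ S.fromSpecResidueField s) ⟶ f.fiber s :=
    pullback.lift (pullback.fst _ _) (pullback.snd _ _ ≫ a) (by rw [Category.assoc]; exact pullback.condition)
  have sq : IsPullback t (pullback.snd f (a ≫ S.fromSpecResidueField s)) (f.fiberToSpecResidueField s) a :=
    IsPullback.of_right (by
      show IsPullback (t ≫ pullback.fst f (S.fromSpecResidueField s)) _ f _
      rw [pullback.lift_fst]; exact IsPullback.of_hasPullback _ _)
      (pullback.lift_snd _ _ _) (IsPullback.of_hasPullback f (S.fromSpecResidueField s))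
  haveI : LocallyOfFiniteType (f.fiberToSpecResidueField s) :=
    MorphismProperty.pullback_snd (P := @LocallyOfFiniteType) f (S.fromSpecResidueField s) inferInstance
  haveI : IsIntegral (Spec (S.residueField s)) := inferInstanceAs (IsIntegral (Spec (CommRingCat.of (S.residueField s))))
  exact (EtAlgEasy.MorFibre.topologicalKrullDim_baseChange sq).symm.trans (h Ω _)

attribute [local instance] smoothOfRelativeDimension_isStableUnderBaseChange

local instance fibreOverOf (s : S) :
    (f.fiber s).Over (Spec (CommRingCat.of (S.residueField s))) := ⟨f.fiberToSpecResidueField s⟩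

/-- The module of an effective divisor meeting every fibre of a family of irreducible curves is relatively ample,
and its complement is affine over the base. -/
theorem isAffineHom_compl [IsProper f] [Smooth f]
    (h : ∀ (Ω : Type u) [Field Ω] [IsAlgClosed Ω] (σ : Spec (CommRingCat.of Ω) ⟶ S),
      IrreducibleSpace ↥(pullback f σ) ∧ topologicalKrullDim ↥(pullback f σ) = 1)
    (I : X.IdealSheafData) [IsFinite (I.subschemeι ≫ f)] [Flat (I.subschemeι ≫ f)]
    [LocallyOfFinitePresentation (I.subschemeι ≫ f)] (hsurj : Function.Surjective (I.subschemeι ≫ f).base)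
    (U : X.Opens) (hU : (U : Set X) = (I.support : Set X)ᶜ) : IsAffineHom (U.ι ≫ f) := by
  have hirr := fun (Ω : Type u) [Field Ω] [IsAlgClosed Ω] σ => (h Ω σ).1
  have hdim := dim_fiber f fun Ω _ _ σ => (h Ω σ).2
  haveI := geometricallyConnected_of_irreducible f hirr
  haveI := JacLib.smoothOfRelativeDimension_one f hdim
  have hI : BlowUp.IsEffCartierIdeal I :=
    ((S1184.result f I).1.2 ⟨inferInstance, inferInstance, inferInstance⟩).1
  have hIi : PicF.IsInvertible (ClSub.idealMod I) := (S8914.result I).2 hI
  obtain ⟨L, hL, ⟨e⟩⟩ := AmpleEmb.exists_isInverseOf hIi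
  have hLI : ClSub.IsInverseOf L (ClSub.idealMod I) := ⟨CurveLib.tmodComm _ _ ≪≫ e⟩
  obtain ⟨σ, hσ⟩ := AVLib.exists_section_genLocus_compl hI hL hLI
  have hUσ : CohB1.genLocus L σ = U := by
    rw [hσ]
    exact Opens.ext hU.symm
  have key : ∀ s : S, CohB1.IsAmple ((Scheme.Modules.pullback (f.fiberι s)).obj L) := by
    intro s
    haveI : IsProper (f.fiber s ↘ Spec (CommRingCat.of (S.residueField s))) :=
      MorphismProperty.pullback_snd (P := @IsProper) f (S.fromSpecResidueField s) inferInstance
    haveI : Smooth (f.fiber s ↘ Spec (CommRingCat.of (S.residueField s))) :=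
      MorphismProperty.pullback_snd (P := @Smooth) f (S.fromSpecResidueField s) inferInstance
    haveI : IrreducibleSpace (f.fiber s) := by
      rw [irreducibleSpace_def]
      show IsIrreducible (Set.univ : Set (f.fiber s))
      obtain ⟨z⟩ : Nonempty (Spec (S.residueField s)) := inferInstanceAs (Nonempty (PrimeSpectrum _))
      have h1 := isIrreducible_fibre (IsPullback.of_hasPullback f (S.fromSpecResidueField s)) hirr z
      rwa [show (pullback.snd f (S.fromSpecResidueField s)).base ⁻¹' {z} = Set.univ from
        Set.eq_univ_of_forall fun x => Subsingleton.elim _ z] at h1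
    haveI := CurveLib.isIntegral_of_smooth (X := f.fiber s) (S.residueField s)
    have hLs := AmpleLib.isInvertible_pullback (f.fiberι s) hL
    set τ := AmpleLib.pullS (f.fiberι s) σ with hτ
    have hloc : CohB1.genLocus _ τ = f.fiberι s ⁻¹ᵁ U := by rw [hτ, AmpleLib.genLocus_pullS _ hL, hUσ]
    -- a point of the divisor in the fibre
    obtain ⟨y, hy⟩ : ∃ y : f.fiber s, y ∉ f.fiberι s ⁻¹ᵁ U := by
      obtain ⟨z, hz⟩ := hsurj s
      obtain ⟨y, hy⟩ : I.subschemeι z ∈ Set.range (f.fiberι s) := by rw [f.range_fiberι]; exact hz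
      refine ⟨y, fun hyU => ?_⟩
      have h2 : I.subschemeι z ∈ (U : Set X) := hy ▸ hyU
      rw [hU] at h2
      exact h2 (I.range_subschemeι ▸ ⟨z, rfl⟩)
    -- a point off the divisor in the fibre
    have hne : ∃ y' : f.fiber s, y' ∈ f.fiberι s ⁻¹ᵁ U := by
      by_contra hall
      push Not at hall
      have hall' : ∀ y', f.fiberι s y' ∈ Set.range I.subschemeι := fun y' => by
        rw [I.range_subschemeι]
        exact not_not.1 fun h' => hall y' (show f.fiberι s y' ∈ (U : Set X) from hU ▸ h')
      haveI hfin : Finite ((I.subschemeι ≫ f).base ⁻¹' {s} : Set I.subscheme) :=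
        (IsFinite.finite_preimage_singleton (I.subschemeι ≫ f) s).to_subtype
      haveI : Finite (f.fiber s) := by
        choose g hg using hall'
        refine Finite.of_injective (fun y' => (⟨g y', ?_⟩ : ((I.subschemeι ≫ f).base ⁻¹' {s} : Set I.subscheme))) ?_
        · show f (I.subschemeι (g y')) = s
          rw [hg]
          have := Set.mem_range_self (f := f.fiberι s) y'
          rwa [f.range_fiberι] at this
        · intro a b hab
          apply (f.fiberι s).isEmbedding.injective
          rw [← hg a, ← hg b]
          exact congrArg (I.subschemeι) (congrArg Subtype.val hab)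
      have h0 : topologicalKrullDim (f.fiber s) ≤ 0 := by
        haveI : JacobsonSpace (f.fiber s) := LocallyOfFiniteType.jacobsonSpace (f.fiber s ↘ Spec (CommRingCat.of (S.residueField s)))
        haveI : DiscreteTopology (f.fiber s) := inferInstance
        exact topologicalKrullDim_zero_of_discreteTopology _
      rw [hdim s] at h0
      exact absurd h0 (by norm_num)
    obtain ⟨y', hy'⟩ := hne
    have hτ0 : τ ≠ 0 := fun h0 => by
      have h1 : y' ∈ CohB1.genLocus _ τ := hloc ▸ hy'
      have h1 := (AmpleLib.mem_genLocus_iff hLs).1 h1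
      rw [h0, show AmpleLib.sec (0 : Coh.structureModule (f.fiber s) ⟶ (Scheme.Modules.pullback (f.fiberι s)).obj L) = 0
        from rfl, map_zero] at h1
      exact zero_ne_one (h1.1 ((smul_zero _).trans (smul_zero _).symm) : (0 : (f.fiber s).presheaf.stalk y') = 1)
    refine (CurveLib.isAmple_iff_deg_pos (k := S.residueField s) (hdim s) hLs).2 ?_
    obtain ⟨h1, h2⟩ := CurveLib.deg_le_of_ne_zero (k := S.residueField s) (hdim s).le
      ParaFLib.isInvertible_structureModule hLs hτ0
    rw [CurveLib.deg_structureModule] at h1 h2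
    refine lt_of_le_of_ne h1 fun he => hy ?_
    haveI := h2 he
    rw [← hloc]
    exact TopologicalSpace.Opens.mem_sSup.2 ⟨⊤,
      inferInstanceAs (IsIso ((Scheme.Modules.restrictFunctor (⊤ : (f.fiber s).Opens).ι).map τ)), trivial⟩
  have hamp := (S12128.result f L hL).2 key
  refine ⟨fun V hV => ?_⟩
  let W := f ⁻¹ᵁ V
  haveI : IsAffine V.toScheme := hV
  have hampW : CohB1.IsAmple ((Scheme.Modules.pullback W.ι).obj L) :=
    AmpleLib.isAmple_of_iso ((Scheme.Modules.restrictFunctorIsoPullback W.ι).app L) (hamp.2 ⟨V, hV⟩)
  have haff := AmpleLib.isAffineOpen_genLocus_of_universallyClosed (f ∣_ V) hampW (AmpleLib.pullS W.ι σ)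
  rw [AmpleLib.genLocus_pullS _ hL, hUσ, ← Scheme.Hom.isAffineOpen_iff_of_isOpenImmersion W.ι,
    Scheme.Hom.image_preimage_eq_opensRange_inf, Scheme.Opens.opensRange_ι] at haff
  rw [← Scheme.Hom.isAffineOpen_iff_of_isOpenImmersion U.ι, Scheme.Hom.comp_preimage,
    Scheme.Hom.image_preimage_eq_opensRange_inf, Scheme.Opens.opensRange_ι, inf_comm]
  exact haff

end Groth.Agent.AnFibLib

end
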