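import Mathlib
/-!
Fibres of base changes: ranges, irreducibility, density of opens.
-/

set_option autoImplicit false

universe u

open CategoryTheory CategoryTheory.Limits AlgebraicGeometry

namespace Groth.Agent.AnFibLib

theorem range_snd_of_isPullback {P X Y Z : Scheme.{u}} {a : P ⟶ X} {b : P ⟶ Y} {f : X ⟶ Z} {g : Y ⟶ Z}
    (sq : IsPullback a b f g) : Set.range b.base = g.base ⁻¹' Set.range f.base := by
  rw [← sq.isoPullback_hom_snd, Scheme.Hom.comp_base, TopCat.coe_comp, Set.range_comp,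
    (Set.range_eq_univ.2 sq.isoPullback.hom.surjective), Set.image_univ]
  exact Scheme.Pullback.range_snd f g

theorem range_fst_of_isPullback {P X Y Z : Scheme.{u}} {a : P ⟶ X} {b : P ⟶ Y} {f : X ⟶ Z} {g : Y ⟶ Z}
    (sq : IsPullback a b f g) : Set.range a.base = f.base ⁻¹' Set.range g.base :=
  range_snd_of_isPullback sq.flip

/-- A morphism with geometrically irreducible fibres has irreducible fibres after base change. -/
theorem isIrreducible_fibre {X S S' P : Scheme.{u}} {f : X ⟶ S} {g : S' ⟶ S} {p : P ⟶ X} {q : P ⟶ S'}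
    (hP : IsPullback p q f g)
    (h : ∀ (Ω : Type u) [Field Ω] [IsAlgClosed Ω] (σ : Spec (CommRingCat.of Ω) ⟶ S),
      IrreducibleSpace ↥(pullback f σ)) (s' : S') : IsIrreducible (q.base ⁻¹' {s'}) := by
  let Ω := AlgebraicClosure (S'.residueField s')
  let σ : Spec (CommRingCat.of Ω) ⟶ S' :=
    Spec.map (CommRingCat.ofHom (algebraMap (S'.residueField s') Ω)) ≫ S'.fromSpecResidueField s'
  have hσ : Set.range σ.base = {s'} := by
    obtain ⟨z₀⟩ : Nonempty (PrimeSpectrum Ω) := inferInstance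
    refine Set.eq_singleton_iff_nonempty_unique_mem.2 ⟨⟨σ.base z₀, z₀, rfl⟩, ?_⟩
    rintro _ ⟨z, rfl⟩
    exact Scheme.fromSpecResidueField_apply s'
      ((Spec.map (CommRingCat.ofHom (algebraMap (S'.residueField s') Ω))).base z)
  haveI := h Ω (σ ≫ g)
  let t : pullback f (σ ≫ g) ⟶ P := hP.lift (pullback.fst f (σ ≫ g)) (pullback.snd f (σ ≫ g) ≫ σ)
    (by rw [Category.assoc]; exact pullback.condition)
  have sqt : IsPullback t (pullback.snd f (σ ≫ g)) q σ :=
    IsPullback.of_right (by rw [hP.lift_fst]; exact IsPullback.of_hasPullback _ _) (hP.lift_snd _ _ _) hP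
  rw [← hσ, ← range_fst_of_isPullback sqt, ← Set.image_univ]
  exact (IrreducibleSpace.isIrreducible_univ _).image _ t.continuous.continuousOn

/-- An open meeting a fibre of a morphism with geometrically irreducible fibres is dense in it after base change. -/
theorem fibre_subset_closure {X S S' P U : Scheme.{u}} {f : X ⟶ S} {g : S' ⟶ S} {p : P ⟶ X} {q : P ⟶ S'}
    (hP : IsPullback p q f g)
    (h : ∀ (Ω : Type u) [Field Ω] [IsAlgClosed Ω] (σ : Spec (CommRingCat.of Ω) ⟶ S),
      IrreducibleSpace ↥(pullback f σ))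
    (j : U ⟶ P) [IsOpenImmersion j] (V : Set X) (hj : Set.range j.base = p.base ⁻¹' V)
    (hV : ∀ s : S, f.base ⁻¹' {s} ⊆ closure (V ∩ f.base ⁻¹' {s})) (s' : S') :
    q.base ⁻¹' {s'} ⊆ closure (Set.range j.base ∩ q.base ⁻¹' {s'}) := by
  have hirr := isIrreducible_fibre hP h s'
  obtain ⟨x₀, hx₀⟩ := hirr.1
  have hs : (f.base ⁻¹' {g.base s'}).Nonempty := ⟨p.base x₀, by
    have h1 : (p ≫ f).base x₀ = (q ≫ g).base x₀ := by rw [hP.w]
    show f.base (p.base x₀) = g.base s'
    rw [← (show q.base x₀ = s' from hx₀)]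
    exact h1⟩
  obtain ⟨y, hyV, hy⟩ := closure_nonempty_iff.1 (hs.mono (hV (g.base s')))
  obtain ⟨z, hz1, hz2⟩ := Scheme.Pullback.exists_preimage_pullback (f := f) (g := g) y s' hy
  let z' : P := hP.isoPullback.inv.base z
  have e1 : p.base z' = y :=
    ((congrArg (fun m : pullback f g ⟶ X => m.base z) hP.isoPullback_inv_fst).trans hz1)
  have e2 : q.base z' = s' :=
    ((congrArg (fun m : pullback f g ⟶ S' => m.base z) hP.isoPullback_inv_snd).trans hz2)
  have hne : (q.base ⁻¹' {s'} ∩ Set.range j.base).Nonempty :=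
    ⟨z', e2, by rw [hj]; show p.base z' ∈ V; rw [e1]; exact hyV⟩
  rw [Set.inter_comm]
  exact subset_closure_inter_of_isPreirreducible_of_isOpen hirr.2 j.isOpenEmbedding.isOpen_range hne

theorem surjective_of_isPullback {P X Y Z : Scheme.{u}} {a : P ⟶ X} {b : P ⟶ Y} {f : X ⟶ Z} {g : Y ⟶ Z}
    (sq : IsPullback a b f g) (h : Function.Surjective f.base) : Function.Surjective b.base := by
  rw [← Set.range_eq_univ, range_snd_of_isPullback sq, Set.range_eq_univ.2 h, Set.preimage_univ]

end Groth.Agent.AnFibLib
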